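import Cfsg.Agent.SmallSimple.TheoremBCor

/-!
# The value at an involution inverting a subgroup `Q` of odd order (helper489, ORE S2443)

`inv_bound` : if the involution `z` normalizes `Q` and all elements `x z`, `x ∈ Q`, are conjugate to `z`, then
`χ z = a - b` with naturals `a + b = dim V^Q`; in particular `|χ z| ≤ dim V^Q`.
-/

set_option autoImplicit false

namespace Cfsg.Agent.H489.Ore

open Cfsg Subgroup
open Cfsg.Agent.Characters.Core

universe u

variable {G : Type u} [Group G] [Finite G]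

theorem trace_idem {n : ℕ} {F : Module.End ℂ (Fin n → ℂ)} (hF : IsIdempotentElem F) :
    ∃ m : ℕ, LinearMap.trace ℂ _ F = m := by
  have hp := (LinearMap.isProj_range_iff_isIdempotentElem F).2 hF
  exact ⟨_, hp.trace⟩

theorem inv_bound {χ : G → ℂ} (hχ : IsCharacter G χ) (Q : Subgroup G) [Fintype Q] {z : G} (hz : z * z = 1)
    (hn : ∀ x ∈ Q, z * x * z⁻¹ ∈ Q) (hc : ∀ x ∈ Q, χ (x * z) = χ z) :
    ∃ a b : ℕ, χ z = (a : ℂ) - b ∧ ∑ x : Q, χ x = (Nat.card Q : ℂ) * (a + b) := by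
  obtain ⟨n, ρ, rfl⟩ := hχ
  have hq : (Nat.card Q : ℂ) ≠ 0 := card_ne_zero_complex
  let E : Module.End ℂ (Fin n → ℂ) := ∑ x : Q, ρ (x : G)
  have h1 : ∀ x : Q, ρ (x : G) * E = E := by
    intro x
    simp only [E, Finset.mul_sum]
    refine Fintype.sum_equiv (Equiv.mulLeft x) _ _ fun z => ?_
    rw [Equiv.coe_mulLeft, ← map_mul]
    rfl
  have hE2 : E * E = (Nat.card Q : ℂ) • E := by
    calc E * E = ∑ x : Q, ρ (x : G) * E := by simp only [E, Finset.sum_mul]
      _ = ∑ _x : Q, E := Finset.sum_congr rfl fun x _ => h1 x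
      _ = (Nat.card Q : ℂ) • E := by
        rw [Finset.sum_const, Finset.card_univ, ← Nat.card_eq_fintype_card,
          Nat.cast_smul_eq_nsmul]
  have hzi : z⁻¹ = z := inv_eq_of_mul_eq_one_right hz
  have hn' : ∀ x ∈ Q, z⁻¹ * x * z ∈ Q := by
    intro x hx
    have h2 := hn x hx
    rwa [hzi] at h2 ⊢
  -- conjugation by `z` on `Q`
  let c : Q ≃ Q :=
    { toFun := fun x => ⟨z * x * z⁻¹, hn x x.2⟩
      invFun := fun x => ⟨z⁻¹ * x * z, hn' x x.2⟩
      left_inv := fun x => Subtype.ext (by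
        show z⁻¹ * (z * (x : G) * z⁻¹) * z = x
        group)
      right_inv := fun x => Subtype.ext (by
        show z * (z⁻¹ * (x : G) * z) * z⁻¹ = x
        group) }
  have hcomm : ρ z * E = E * ρ z := by
    simp only [E, Finset.mul_sum, Finset.sum_mul]
    refine Fintype.sum_equiv c _ _ fun x => ?_
    rw [← map_mul, ← map_mul]
    congr 1
    show z * (x : G) = z * (x : G) * z⁻¹ * z
    group
  have hzz : ρ z * ρ z = 1 := by rw [← map_mul, hz, map_one]
  let F : Module.End ℂ (Fin n → ℂ) := (Nat.card Q : ℂ)⁻¹ • E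
  have hF : F * F = F := by
    simp only [F]
    rw [smul_mul_smul_comm, hE2, smul_smul]
    congr 1
    field_simp
  have hFz : ρ z * F = F * ρ z := by
    simp only [F, mul_smul_comm, smul_mul_assoc, hcomm]
  let A : Module.End ℂ (Fin n → ℂ) := (2 : ℂ)⁻¹ • (F + F * ρ z)
  let B : Module.End ℂ (Fin n → ℂ) := (2 : ℂ)⁻¹ • (F - F * ρ z)
  have e1 : F * ρ z * F = F * ρ z := by rw [mul_assoc, hFz, ← mul_assoc, hF]
  have e2 : F * (F * ρ z) = F * ρ z := by rw [← mul_assoc, hF]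
  have e3 : F * ρ z * (F * ρ z) = F := by
    rw [← mul_assoc, e1, mul_assoc, hzz, mul_one]
  have hA : IsIdempotentElem A := by
    show A * A = A
    simp only [A]
    rw [smul_mul_smul_comm, add_mul, mul_add, mul_add, hF, e1, e2, e3]
    rw [show F + F * ρ z + (F * ρ z + F) = (2 : ℂ) • (F + F * ρ z) by rw [two_smul]; abel, smul_smul]
    congr 1
    norm_num
  have hB : IsIdempotentElem B := by
    show B * B = B
    simp only [B]
    rw [smul_mul_smul_comm, sub_mul, mul_sub, mul_sub, hF, e1, e2, e3]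
    rw [show F - F * ρ z - (F * ρ z - F) = (2 : ℂ) • (F - F * ρ z) by rw [two_smul]; abel, smul_smul]
    congr 1
    norm_num
  obtain ⟨a, ha⟩ := trace_idem hA
  obtain ⟨b, hb⟩ := trace_idem hB
  have tE : LinearMap.trace ℂ _ E = ∑ x : Q, ρ.character x := by
    simp only [E, map_sum]
    rfl
  have tF : LinearMap.trace ℂ _ F = (Nat.card Q : ℂ)⁻¹ * ∑ x : Q, ρ.character x := by
    simp only [F, map_smul, tE, smul_eq_mul]
  have tFz : LinearMap.trace ℂ _ (F * ρ z) = ρ.character z := by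
    have h2 : F * ρ z = (Nat.card Q : ℂ)⁻¹ • ∑ x : Q, ρ ((x : G) * z) := by
      simp only [F, E, smul_mul_assoc, Finset.sum_mul, map_mul]
    rw [h2, map_smul, map_sum]
    have h3 : ∀ x : Q, LinearMap.trace ℂ _ (ρ ((x : G) * z)) = ρ.character z := fun x => hc x x.2
    rw [Finset.sum_congr rfl fun x _ => h3 x, Finset.sum_const, Finset.card_univ, ← Nat.card_eq_fintype_card,
      nsmul_eq_mul, smul_eq_mul, ← mul_assoc, inv_mul_cancel₀ hq, one_mul]
  have tA : LinearMap.trace ℂ _ A = 2⁻¹ * (LinearMap.trace ℂ _ F + ρ.character z) := by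
    simp only [A, map_smul, map_add, tFz, smul_eq_mul]
  have tB : LinearMap.trace ℂ _ B = 2⁻¹ * (LinearMap.trace ℂ _ F - ρ.character z) := by
    simp only [B, map_smul, map_sub, tFz, smul_eq_mul]
  refine ⟨a, b, ?_, ?_⟩
  · rw [← ha, ← hb, tA, tB]
    ring
  · rw [← ha, ← hb, tA, tB]
    rw [show (2 : ℂ)⁻¹ * (LinearMap.trace ℂ _ F + ρ.character z) + 2⁻¹ * (LinearMap.trace ℂ _ F - ρ.character z) =
      LinearMap.trace ℂ _ F by ring, tF, ← mul_assoc, mul_inv_cancel₀ hq, one_mul]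

/-- the elements `y ^ k z`, `z` inverting `y` of odd order, are conjugate to `z` -/
theorem conj_of_invert {y z : G} (hyz : z * y * z⁻¹ = y⁻¹) (ho : Odd (orderOf y)) {x : G} (hx : x ∈ zpowers y) :
    ∃ w ∈ zpowers y, w * z * w⁻¹ = x * z := by
  obtain ⟨k, rfl⟩ := mem_zpowers_iff.1 hx
  obtain ⟨m, hm⟩ := ho
  refine ⟨y ^ (k * (m + 1)), zpow_mem (mem_zpowers y) _, ?_⟩
  have h1 : z * (y ^ (k * (m + 1)))⁻¹ * z⁻¹ = y ^ (k * (m + 1)) := by
    have h2 : z * y ^ (k * (m + 1)) * z⁻¹ = (y ^ (k * (m + 1)))⁻¹ := by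
      rw [← conj_zpow, hyz, inv_zpow]
    calc z * (y ^ (k * (m + 1)))⁻¹ * z⁻¹ = (z * y ^ (k * (m + 1)) * z⁻¹)⁻¹ := by group
      _ = y ^ (k * (m + 1)) := by rw [h2, inv_inv]
  have h3 : y ^ (2 * (k * (m + 1))) = y ^ k := by
    rw [show 2 * (k * (m + 1)) = (orderOf y : ℤ) * k + k by rw [hm]; push_cast; ring, zpow_add, zpow_mul, zpow_natCast,
      pow_orderOf_eq_one, one_zpow, one_mul]
  calc y ^ (k * (m + 1)) * z * (y ^ (k * (m + 1)))⁻¹ =
      y ^ (k * (m + 1)) * (z * (y ^ (k * (m + 1)))⁻¹ * z⁻¹) * z := by group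
    _ = y ^ (k * (m + 1)) * y ^ (k * (m + 1)) * z := by rw [h1]
    _ = y ^ k * z := by rw [← zpow_add, ← two_mul, h3]

/-- `z` an involution inverting `y` of odd order -/
theorem invert_bound {χ : G → ℂ} (hχ : IsCharacter G χ) {y z : G} (hz : z * z = 1) (hyz : z * y * z⁻¹ = y⁻¹)
    (ho : Odd (orderOf y)) [Fintype (zpowers y)] :
    ∃ a b : ℕ, χ z = (a : ℂ) - b ∧ ∑ x : zpowers y, χ x = (orderOf y : ℂ) * (a + b) := by
  have hcl : IsClassFunction G χ := isCharacter_isClassFunction hχ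
  obtain ⟨a, b, h1, h2⟩ := inv_bound hχ (zpowers y) hz (by
    intro x hx
    obtain ⟨k, rfl⟩ := mem_zpowers_iff.1 hx
    rw [← conj_zpow, hyz]
    exact zpow_mem (inv_mem (mem_zpowers y)) _) (by
    intro x hx
    obtain ⟨w, -, hw⟩ := conj_of_invert hyz ho hx
    rw [← hw]
    exact hcl z w)
  exact ⟨a, b, h1, by rw [h2, Nat.card_zpowers]⟩

end Cfsg.Agent.H489.Ore
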