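import Cfsg.Agent.SmallSimple.TheoremCCor
import Cfsg.Agent.H489.Ore.Fix

/-!
# An exact prime `p` with `C(P) = P × 2²` (helper489, ORE S2443)

`N(P)` transitive on the three involutions of `K = O_{p'}(C(P))` and `|N(P) : C(P)| = p - 1`, `3 ∣ p - 1`: degree and
value at an involution of `K` of every irreducible character (`cases`).
-/

set_option autoImplicit false
set_option linter.unusedSectionVars false

namespace Cfsg.Agent.H489.Ore

open Cfsg Subgroup
open Cfsg.Agent.Characters.Core Cfsg.Agent.Characters.Linear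
open Cfsg.Agent.SmallSimple.PrimeDual Cfsg.Agent.SmallSimple.ThetaSetup
open Cfsg.Agent.SmallSimple.ThetaOrtho Cfsg.Agent.SmallSimple.TheoremC Cfsg.Agent.SmallSimple.TheoremCCor
open scoped ComplexConjugate

universe u

variable {G : Type u} [Group G] [Finite G] {p : ℕ} [Fact p.Prime] {P : Sylow p G} {K : Subgroup G}

section lam

/-- the linear character of the four-group `K` with kernel `⟨k⟩` -/
noncomputable def lam (k : K) : K →* ℂˣ where
  toFun := fun y => open Classical in if y ∈ zpowers k then 1 else (if (zpowers k).index = 2 then -1 else 1)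
  map_one' := by
    classical
    rw [if_pos (one_mem _)]
  map_mul' := by
    classical
    intro x y
    by_cases h : (zpowers k).index = 2
    · simp only [if_pos h]
      have h1 := mul_mem_iff_of_index_two h (a := x) (b := y)
      by_cases hx : x ∈ zpowers k <;> by_cases hy : y ∈ zpowers k
      · rw [if_pos hx, if_pos hy, if_pos (h1.2 (by simp [hx, hy])), one_mul]
      · rw [if_pos hx, if_neg hy, if_neg (fun h2 => hy ((h1.1 h2).1 hx)), one_mul]
      · rw [if_neg hx, if_pos hy, if_neg (fun h2 => hx ((h1.1 h2).2 hy)), mul_one]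
      · rw [if_neg hx, if_neg hy, if_pos (h1.2 (by simp [hx, hy]))]
        simp
    · simp [if_neg h]

variable (hK4 : Nat.card K = 4) (hsq : ∀ k : K, k * k = 1)
include hK4 hsq

theorem mem_zp {k y : K} : y ∈ zpowers k ↔ y = 1 ∨ y = k := by
  constructor
  · intro h
    obtain ⟨n, rfl⟩ := mem_zpowers_iff.1 h
    rcases Int.even_or_odd n with ⟨m, rfl⟩ | ⟨m, rfl⟩
    · left
      rw [← two_mul, zpow_mul, zpow_two, hsq, one_zpow]
    · right
      rw [zpow_add, zpow_mul, zpow_two, hsq, one_zpow, one_mul, zpow_one]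
  · rintro (rfl | rfl)
    · exact one_mem _
    · exact mem_zpowers _

theorem index_zp {k : K} (hk : k ≠ 1) : (zpowers k).index = 2 := by
  have h1 : orderOf k = 2 := orderOf_eq_prime (by rw [pow_two]; exact hsq k) hk
  have h2 := (zpowers k).card_mul_index
  rw [Nat.card_zpowers, h1, hK4] at h2
  omega

theorem lam_self {k : K} : (lam k k : ℂ) = 1 := by
  classical
  show (((if k ∈ zpowers k then 1 else _ : ℂˣ)) : ℂ) = 1
  rw [if_pos (mem_zpowers k)]
  rfl

theorem lam_other {k y : K} (hk : k ≠ 1) (h1 : y ≠ 1) (h2 : y ≠ k) : (lam k y : ℂ) = -1 := by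
  classical
  show (((if y ∈ zpowers k then 1 else (if (zpowers k).index = 2 then -1 else 1) : ℂˣ)) : ℂ) = -1
  rw [if_neg (fun h => by rcases (mem_zp hK4 hsq).1 h with h | h; exacts [h1 h, h2 h]), if_pos (index_zp hK4 hsq hk)]
  simp

theorem lam_inj {k k' : K} (hk : k ≠ 1) (hk' : k' ≠ 1) (h : (fun y => (lam k y : ℂ)) = fun y => (lam k' y : ℂ)) :
    k = k' := by
  by_contra hne
  have h1 : (lam k k : ℂ) = (lam k' k : ℂ) := congrFun h k
  rw [lam_self hK4 hsq, lam_other hK4 hsq hk' hk hne] at h1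
  norm_num at h1

theorem exists_three : ∃ k₁ k₂ k₃ : K, k₁ ≠ 1 ∧ k₂ ≠ 1 ∧ k₃ ≠ 1 ∧ k₁ ≠ k₂ ∧ k₁ ≠ k₃ ∧ k₂ ≠ k₃ ∧
    ∀ y : K, y = 1 ∨ y = k₁ ∨ y = k₂ ∨ y = k₃ := by
  classical
  have := Fintype.ofFinite K
  have h1 : ((Finset.univ : Finset K).erase 1).card = 3 := by
    rw [Finset.card_erase_of_mem (Finset.mem_univ _), Finset.card_univ, ← Nat.card_eq_fintype_card, hK4]
  obtain ⟨k₁, k₂, k₃, h12, h13, h23, h⟩ := Finset.card_eq_three.1 h1
  have hm : ∀ y : K, y ≠ 1 ↔ y = k₁ ∨ y = k₂ ∨ y = k₃ := by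
    intro y
    have h2 : y ∈ (Finset.univ : Finset K).erase 1 ↔ y ∈ ({k₁, k₂, k₃} : Finset K) := by rw [h]
    simpa using h2
  exact ⟨k₁, k₂, k₃, (hm _).2 (Or.inl rfl), (hm _).2 (Or.inr (Or.inl rfl)), (hm _).2 (Or.inr (Or.inr rfl)), h12, h13, h23,
    fun y => by
      by_cases hy : y = 1
      · exact Or.inl hy
      · exact Or.inr ((hm y).1 hy)⟩

end lam

/-- the hypotheses on `P`, `K`; all involutions of `K` are conjugate to `t` -/
structure Loc (P : Sylow p G) (K : Subgroup G) (t : G) : Prop where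
  comp : IsComp p (P : Subgroup G) K
  cardP : Nat.card P = p
  cardK : Nat.card K = 4
  sq : ∀ k : K, k * k = 1
  cj : ∀ k : K, k ≠ 1 → IsConj t k
  tr : ∀ k k' : K, k ≠ 1 → k' ≠ 1 → ∃ n ∈ normalizer ((P : Subgroup G) : Set G), n * k * n⁻¹ = k'
  rel : (centralizer ((P : Subgroup G) : Set G)).relIndex (normalizer ((P : Subgroup G) : Set G)) = p - 1
  three : 3 ∣ p - 1

namespace Loc

variable {t : G} (h : Loc P K t)
include h

theorem tw_lam {k : K} (hk : k ≠ 1) {n : G} (hn : n ∈ normalizer ((P : Subgroup G) : Set G)) {k' : K}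
    (hnk : n * k' * n⁻¹ = k) : tw (fun y => (lam k y : ℂ)) n = fun y => (lam k' y : ℂ) := by
  have hk' : k' ≠ 1 := by
    rintro rfl
    apply hk
    apply Subtype.ext
    rw [← hnk]
    simp
  funext y
  rw [tw_apply h.comp _ hn]
  by_cases h1 : y = 1
  · subst h1
    have h2 : (⟨n * ((1 : K) : G) * n⁻¹, conj_mem h.comp hn (one_mem K)⟩ : K) = 1 := Subtype.ext (by simp)
    rw [h2, map_one, map_one]
  by_cases h2 : y = k'
  · subst h2
    have h3 : (⟨n * (y : G) * n⁻¹, conj_mem h.comp hn y.2⟩ : K) = k := Subtype.ext hnk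
    rw [h3, lam_self h.cardK h.sq, lam_self h.cardK h.sq]
  · rw [lam_other h.cardK h.sq hk' h1 h2, lam_other h.cardK h.sq hk]
    · intro h3
      apply h1
      have h4 : n * (y : G) * n⁻¹ = 1 := congrArg Subtype.val h3
      exact Subtype.ext (conj_eq_one_iff.1 h4)
    · intro h3
      apply h2
      have h4 : n * (y : G) * n⁻¹ = k := congrArg Subtype.val h3
      rw [← hnk] at h4
      exact Subtype.ext (mul_left_cancel (mul_right_cancel h4))

theorem card_orb {k : K} (hk : k ≠ 1) : (orb P K (fun y => (lam k y : ℂ))).card = 3 := by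
  classical
  obtain ⟨k₁, k₂, k₃, h1, h2, h3, h12, h13, h23, hall⟩ := exists_three h.cardK h.sq
  let F : K → IrrCharacter K := fun k => ⟨_, isIrrCharacter_hom (lam k)⟩
  have hF : ∀ a b : K, a ≠ 1 → b ≠ 1 → F a = F b → a = b := fun a b ha hb hab =>
    lam_inj h.cardK h.sq ha hb (congrArg Subtype.val hab)
  have hs : orb P K (fun y => (lam k y : ℂ)) = {F k₁, F k₂, F k₃} := by
    ext θ
    rw [mem_orb]
    simp only [Finset.mem_insert, Finset.mem_singleton]
    constructor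
    · rintro ⟨n, hn, hθ⟩
      have hk'm : n⁻¹ * (k : G) * n ∈ K := by
        have := conj_mem h.comp (inv_mem hn) k.2
        rwa [inv_inv] at this
      have h4 := h.tw_lam hk hn (k' := ⟨_, hk'm⟩) (by
        show n * (n⁻¹ * (k : G) * n) * n⁻¹ = k
        group)
      have h5 : θ = F ⟨_, hk'm⟩ := Subtype.ext (hθ.symm.trans h4)
      rw [h5]
      rcases hall ⟨_, hk'm⟩ with h6 | h6 | h6 | h6
      · exfalso
        apply hk
        have h7 : n⁻¹ * (k : G) * n = 1 := congrArg Subtype.val h6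
        apply Subtype.ext
        calc (k : G) = n * (n⁻¹ * k * n) * n⁻¹ := by group
          _ = 1 := by rw [h7]; group
      · left; rw [h6]
      · right; left; rw [h6]
      · right; right; rw [h6]
    · have key : ∀ k' : K, k' ≠ 1 → ∃ n ∈ normalizer ((P : Subgroup G) : Set G),
          tw (fun y => (lam k y : ℂ)) n = F k' := by
        intro k' hk'
        obtain ⟨n, hn, hnk⟩ := h.tr k' k hk' hk
        exact ⟨n, hn, h.tw_lam hk hn hnk⟩
      rintro (rfl | rfl | rfl)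
      · exact key _ h1
      · exact key _ h2
      · exact key _ h3
  rw [hs, Finset.card_eq_three]
  exact ⟨_, _, _, fun e => h12 (hF _ _ h1 h2 e), fun e => h13 (hF _ _ h1 h3 e), fun e => h23 (hF _ _ h2 h3 e), rfl⟩

theorem card_stab {k : K} (hk : k ≠ 1) :
    Nat.card (stabAct h.comp (fun y => (lam k y : ℂ))) = (p - 1) / 3 := by
  have h1 := card_stabAct_mul_card_orb h.comp h.cardP (isIrrCharacter_hom (lam k))
  rw [h.card_orb hk, h.rel] at h1
  have h2 := h.three
  omega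

theorem card_stab_one : Nat.card (stabAct h.comp (1 : K → ℂ)) = p - 1 := by
  rw [card_stabAct_of_stable h.comp h.cardP isIrr_one (fun n hn => tw_one_char h.comp hn), h.rel]

theorem part_one_triv {χ : G → ℂ} (hχ : IsClassFunction G χ) : part (1 : K → ℂ) χ 1 = (χ 1 + 3 * χ t) / 4 := by
  classical
  have := Fintype.ofFinite K
  obtain ⟨k₁, k₂, k₃, h1, h2, h3, h12, h13, h23, hall⟩ := exists_three h.cardK h.sq
  have hu : (Finset.univ : Finset K) = {1, k₁, k₂, k₃} := by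
    ext y
    simp only [Finset.mem_univ, Finset.mem_insert, Finset.mem_singleton, true_iff]
    exact hall y
  have hc : ∀ k : K, k ≠ 1 → χ (1 * (k : G)) = χ t := by
    intro k hk
    rw [one_mul]
    obtain ⟨c, hc⟩ := isConj_iff.1 (h.cj k hk)
    rw [← hc, hχ]
  rw [part_eq, h.cardK, hu, Finset.sum_insert (by simp [Ne.symm h1, Ne.symm h2, Ne.symm h3]),
    Finset.sum_insert (by simp [h12, h13]), Finset.sum_insert (by simp [h23]), Finset.sum_singleton,
    hc _ h1, hc _ h2, hc _ h3]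
  simp
  ring

theorem part_one_lam {χ : G → ℂ} (hχ : IsClassFunction G χ) {k : K} (hk : k ≠ 1) :
    part (fun y : K => (lam k y : ℂ)) χ 1 = (χ 1 - χ t) / 4 := by
  classical
  have := Fintype.ofFinite K
  have hcr : ∀ k' : K, conj ((lam k k' : ℂ)) = (lam k k' : ℂ) := by
    intro k'
    by_cases h1 : k' = 1
    · subst h1; simp
    by_cases h2 : k' = k
    · subst h2; rw [lam_self h.cardK h.sq]; simp
    · rw [lam_other h.cardK h.sq hk h1 h2]; simp
  obtain ⟨k₁, k₂, k₃, h1, h2, h3, h12, h13, h23, hall⟩ := exists_three h.cardK h.sq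
  have hu : (Finset.univ : Finset K) = {1, k₁, k₂, k₃} := by
    ext y
    simp only [Finset.mem_univ, Finset.mem_insert, Finset.mem_singleton, true_iff]
    exact hall y
  have hc : ∀ k : K, k ≠ 1 → χ (1 * (k : G)) = χ t := by
    intro k hk
    rw [one_mul]
    obtain ⟨c, hc⟩ := isConj_iff.1 (h.cj k hk)
    rw [← hc, hχ]
  have hs : (lam k k₁ : ℂ) + lam k k₂ + lam k k₃ = -1 := by
    rcases hall k with h4 | h4 | h4 | h4
    · exact absurd h4 hk
    · subst h4
      rw [lam_self h.cardK h.sq, lam_other h.cardK h.sq hk h2 (Ne.symm h12), lam_other h.cardK h.sq hk h3 (Ne.symm h13)]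
      norm_num
    · subst h4
      rw [lam_self h.cardK h.sq, lam_other h.cardK h.sq hk h1 h12, lam_other h.cardK h.sq hk h3 (Ne.symm h23)]
      norm_num
    · subst h4
      rw [lam_self h.cardK h.sq, lam_other h.cardK h.sq hk h1 h13, lam_other h.cardK h.sq hk h2 h23]
      norm_num
  rw [part_eq, h.cardK, hu, Finset.sum_insert (by simp [Ne.symm h1, Ne.symm h2, Ne.symm h3]),
    Finset.sum_insert (by simp [h12, h13]), Finset.sum_insert (by simp [h23]), Finset.sum_singleton,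
    hc _ h1, hc _ h2, hc _ h3, hcr, hcr, hcr, hcr]
  have e1 : χ (1 * ((1 : K) : G)) = χ 1 := by simp
  rw [e1, map_one]
  have e2 : ((1 : ℂˣ) : ℂ) = 1 := rfl
  rw [e2]
  push_cast
  linear_combination (1 / 4) * χ t * hs

/-- **degree and value at `t`** : `m₁ = dim V^K`, `m₂` the multiplicity of a nontrivial character of `K` -/
theorem cases (χ : IrrCharacter G) : ∃ m₁ m₂ : ℕ, (χ : G → ℂ) 1 = (m₁ : ℂ) + 3 * m₂ ∧ (χ : G → ℂ) t = (m₁ : ℂ) - m₂ ∧
    (((∃ δ : ℤ, (δ = 1 ∨ δ = -1) ∧ (p : ℤ) ∣ m₁ - δ) ∧ (p : ℤ) ∣ m₂) ∨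
     ((p : ℤ) ∣ m₁ ∧ (p : ℤ) ∣ m₂) ∨
     ((p : ℤ) ∣ m₁ ∧ ∃ δ : ℤ, (δ = 1 ∨ δ = -1) ∧ (p : ℤ) ∣ m₂ - δ) ∨
     ((p : ℤ) ∣ m₁ ∧ ∃ δ : ℤ, (δ = 1 ∨ δ = -1) ∧ (p : ℤ) ∣ m₂ - δ * ((p - 1) / 3 : ℕ) ∧
       ∃ X : Finset (IrrCharacter G), X.card = 3 ∧ ∀ Θ ∈ X, ∀ g : G, ¬ p ∣ orderOf g →
        (Θ : G → ℂ) g = (χ : G → ℂ) g)) := by
  classical
  have hχ := isIrr_isCharacter χ.2
  have hcl := isIrr_isClassFunction χ.2
  obtain ⟨k, -, -, hk, -⟩ := exists_three h.cardK h.sq
  have hl := isIrrCharacter_hom (lam k)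
  obtain ⟨m₁, h1⟩ := exists_part_one h.comp hχ (isIrr_one (G := K))
  obtain ⟨m₂, h2⟩ := exists_part_one h.comp hχ hl
  have e1 := h.part_one_triv hcl
  have e2 := h.part_one_lam hcl hk
  rw [h1] at e1
  rw [h2] at e2
  refine ⟨m₁, m₂, by rw [e1, e2]; ring, by rw [e1, e2]; ring, ?_⟩
  have hdisj : Disjoint (Over P (1 : K → ℂ)) (Over P (fun y => (lam k y : ℂ))) := by
    refine disjoint_Over h.comp h.cardP isIrr_one hl ?_
    intro n hn hne
    rw [tw_one_char h.comp hn] at hne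
    obtain ⟨k₁, k₂, k₃, h1, h2, h3, h12, h13, h23, hall⟩ := exists_three h.cardK h.sq
    obtain ⟨y, hy1, hy2⟩ : ∃ y : K, y ≠ 1 ∧ y ≠ k := by
      by_cases h4 : k₁ = k
      · exact ⟨k₂, h2, fun h5 => h12 (h4.trans h5.symm)⟩
      · exact ⟨k₁, h1, h4⟩
    have h4 := congrFun hne y
    have h5 : (1 : ℂ) = (lam k y : ℂ) := h4
    rw [lam_other h.cardK h.sq hk hy1 hy2] at h5
    norm_num at h5
  -- zero parts
  have hz1 : χ ∉ Over P (1 : K → ℂ) → (p : ℤ) ∣ m₁ := by
    intro h3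
    obtain ⟨c, hc⟩ := part_one_of_const h.comp h.cardP hχ (isIrr_one (G := K)) (c := 0) (fun x hx => by
      rw [part_eq_zero h3 hx]; simp)
    rw [h1] at hc
    refine ⟨c, ?_⟩
    have h4 : ((m₁ : ℤ) : ℂ) = ((p * c : ℤ) : ℂ) := by push_cast; rw [hc]; push_cast; ring
    exact_mod_cast h4
  have hz2 : χ ∉ Over P (fun y => (lam k y : ℂ)) → (p : ℤ) ∣ m₂ := by
    intro h3
    obtain ⟨c, hc⟩ := part_one_of_const h.comp h.cardP hχ hl (c := 0) (fun x hx => by
      rw [part_eq_zero h3 hx]; simp)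
    rw [h2] at hc
    refine ⟨c, ?_⟩
    have h4 : ((m₂ : ℤ) : ℂ) = ((p * c : ℤ) : ℂ) := by push_cast; rw [hc]; push_cast; ring
    exact_mod_cast h4
  by_cases hO1 : χ ∈ Over P (1 : K → ℂ)
  · left
    have hO2 : χ ∉ Over P (fun y => (lam k y : ℂ)) := fun h3 => Set.disjoint_left.1 hdisj hO1 h3
    refine ⟨?_, hz2 hO2⟩
    obtain ⟨B, δ, -, hB, hδ, -⟩ := theoremC_one h.comp h.cardP isIrr_one h.card_stab_one
    obtain ⟨hd, hc⟩ := hδ χ ((hB χ).1 hO1)
    obtain ⟨c, hc⟩ := part_one_of_const h.comp h.cardP hχ (isIrr_one (G := K)) hc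
    rw [h1] at hc
    refine ⟨δ χ, hd, c, ?_⟩
    have h4 : ((m₁ : ℤ) : ℂ) = ((δ χ + p * c : ℤ) : ℂ) := by push_cast; rw [hc]
    have h5 : (m₁ : ℤ) = δ χ + p * c := by exact_mod_cast h4
    rw [h5]; ring
  right
  have hm1 := hz1 hO1
  by_cases hO2 : χ ∈ Over P (fun y => (lam k y : ℂ))
  · right
    have h3 := h.three
    have het : (p - 1) / 3 * 3 = p - 1 := Nat.div_mul_cancel h3
    obtain ⟨NE, X, ε, d, S, hO, -, -, hX, hε, hd, hNE, hXv, -, -, hsum⟩ := theoremC h.comp h.cardP hl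
      (h.card_stab hk) het
    rcases (hO χ).1 hO2 with h4 | h4
    · left
      refine ⟨hm1, ε χ, hε χ h4, ?_⟩
      obtain ⟨c, hc⟩ := part_one_of_const h.comp h.cardP hχ hl (hNE χ h4)
      rw [h2] at hc
      refine ⟨c, ?_⟩
      have h5 : ((m₂ : ℤ) : ℂ) = ((ε χ + p * c : ℤ) : ℂ) := by push_cast; rw [hc]
      have h6 : (m₂ : ℤ) = ε χ + p * c := by exact_mod_cast h5
      rw [h6]; ring
    · right
      refine ⟨hm1, d, hd, ?_, X, hX, ?_⟩
      · obtain ⟨hS, hS1, -, hv⟩ := hXv χ h4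
        obtain ⟨c, hc⟩ := part_one_of_exc h.comp h.cardP hχ hl hS1 hv
        rw [h2, hS] at hc
        refine ⟨c, ?_⟩
        generalize (p - 1) / 3 = E at hc ⊢
        have h5 : ((m₂ : ℤ) : ℂ) = ((d * E + p * c : ℤ) : ℂ) := by push_cast; rw [hc]
        have h6 : (m₂ : ℤ) = d * E + p * c := by exact_mod_cast h5
        rw [h6]; ring
      · intro Θ hΘ g hg
        have h5 := hsum χ h4 g hg
        rw [hsum Θ hΘ g hg] at h5
        have hd0 : (d : ℂ) ≠ 0 := by
          rcases hd with rfl | rfl <;> norm_num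
        exact mul_left_cancel₀ hd0 h5
  · left
    exact ⟨hm1, hz2 hO2⟩

end Loc

end Cfsg.Agent.H489.Ore
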