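import Cfsg.Agent.H489.Ore.Four
import Cfsg.Agent.SmallSimple.PrimeLocal
import Cfsg.Agent.SmallSimple.SelfCentPrime

/-!
# Construction of `Loc` (helper489, ORE S2443)
-/

set_option autoImplicit false

namespace Cfsg.Agent.H489.Ore

open Cfsg Subgroup
open Cfsg.Agent.SmallSimple.ThetaSetup Cfsg.Agent.SmallSimple.PrimeLocal

universe u

variable {G : Type u} [Group G] [Finite G] {p : ℕ} [Fact p.Prime]

theorem exists_loc [IsSimpleGroup G] (hG : ¬ IsMulCommutative G) {N : ℕ} (hN : Nat.card G = N) {y v w t : G}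
    (hy : orderOf y = p) (hC : Nat.card (centralizer ({y} : Set G)) = p * 4) (hv : v * v = 1) (hw : w * w = 1)
    (hv1 : v ≠ 1) (hw1 : w ≠ 1) (hvw : v ≠ w) (hcomm : v * w = w * v) (hyv : v * y = y * v) (hyw : w * y = y * w)
    (ht : ∀ k : G, k * k = 1 → k ≠ 1 → k * y = y * k → IsConj t k)
    (hn1 : N % p = 0) (hn2 : N % p ^ 2 ≠ 0) (hn3 : N / (p * 4) % p = p - 1) (h3 : 3 ∣ p - 1) (hp2 : p ≠ 2) :
    ∃ (P : Sylow p G) (K : Subgroup G), Loc P K t := by
  classical
  have hp : p.Prime := Fact.out
  have h1 : p ∣ Nat.card G := by rw [hN]; exact Nat.dvd_of_mod_eq_zero hn1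
  have h2 : ¬ p ^ 2 ∣ Nat.card G := by
    rw [hN]; exact fun h => hn2 (Nat.mod_eq_zero_of_dvd h)
  have hpg : IsPGroup p (zpowers y) := IsPGroup.of_card (n := 1) (by rw [Nat.card_zpowers, hy, pow_one])
  obtain ⟨P, hyP⟩ := hpg.exists_le_sylow
  have hP : Nat.card P = p := card_of_not_sq_dvd h1 h2 P
  have hPy : (P : Subgroup G) = zpowers y := by
    have h3 : Nat.card (zpowers y) = Nat.card (P : Subgroup G) := by rw [Nat.card_zpowers, hy]; exact hP.symm
    exact (Subgroup.eq_of_le_of_card_ge hyP h3.ge).symm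
  have hCy : centralizer ((P : Subgroup G) : Set G) = centralizer ({y} : Set G) := by
    rw [hPy, SmallSimple.SelfCentPrime.centralizer_zpowers]
  obtain ⟨e, K', hL⟩ := exists_local hG h1 h2 P
  obtain ⟨K, hK⟩ := exists_isComp P hP
  have hCP : Nat.card (centralizer ((P : Subgroup G) : Set G)) = p * 4 := by rw [hCy, hC]
  have hK4 : Nat.card K = 4 := by
    have h4 := SmallSimple.ThetaOrtho.card_centralizer hK hP
    rw [hCP] at h4
    exact (Nat.eq_of_mul_eq_mul_left hp.pos h4).symm
  have hK4' : Nat.card K' = 4 := by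
    have h4 := hL.card_centralizer
    exact Nat.eq_of_mul_eq_mul_left hp.pos (h4.symm.trans hCP)
  -- `K = {1, v, w, v w}`
  have hmem : ∀ k : G, k * k = 1 → k * y = y * k → k ∈ K := by
    intro k hk hky
    rw [hK]
    refine ⟨by rw [hCy, mem_centralizer_singleton_iff]; exact hky, ?_⟩
    intro hd
    have h4 : orderOf k ∣ 2 := orderOf_dvd_of_pow_eq_one (by rw [pow_two]; exact hk)
    exact hp2 ((Nat.prime_dvd_prime_iff_eq hp Nat.prime_two).1 (hd.trans h4))
  have hvK := hmem v hv hyv
  have hwK := hmem w hw hyw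
  have hvwK : v * w ∈ K := mul_mem hvK hwK
  have hall : ∀ k : K, k = 1 ∨ k = ⟨v, hvK⟩ ∨ k = ⟨w, hwK⟩ ∨ k = ⟨v * w, hvwK⟩ := by
    intro k
    have := Fintype.ofFinite K
    have hu : (Finset.univ : Finset K) = {1, ⟨v, hvK⟩, ⟨w, hwK⟩, ⟨v * w, hvwK⟩} := by
      symm
      apply Finset.eq_univ_of_card
      rw [← Nat.card_eq_fintype_card, hK4]
      rw [Finset.card_insert_of_notMem, Finset.card_insert_of_notMem, Finset.card_insert_of_notMem, Finset.card_singleton]
      · simp only [Finset.mem_singleton, Subtype.mk.injEq]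
        intro h4
        exact hv1 (right_eq_mul.1 h4 |> fun h => h)
      · simp only [Finset.mem_insert, Finset.mem_singleton, Subtype.mk.injEq, not_or]
        exact ⟨hvw, fun h4 => hw1 (left_eq_mul.1 h4)⟩
      · simp only [Finset.mem_insert, Finset.mem_singleton, not_or]
        refine ⟨fun h4 => hv1 (congrArg Subtype.val h4).symm, fun h4 => hw1 (congrArg Subtype.val h4).symm, fun h4 => ?_⟩
        have h5 : (1 : G) = v * w := congrArg Subtype.val h4
        apply hvw
        calc v = v * (w * w) := by rw [hw, mul_one]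
          _ = v * w * w := by group
          _ = w := by rw [← h5, one_mul]
    have h4 := Finset.mem_univ k
    rw [hu] at h4
    simpa using h4
  have hsq : ∀ k : K, k * k = 1 := by
    intro k
    rcases hall k with rfl | rfl | rfl | rfl
    · exact one_mul 1
    · exact Subtype.ext hv
    · exact Subtype.ext hw
    · refine Subtype.ext ?_
      show v * w * (v * w) = 1
      calc v * w * (v * w) = v * (w * v) * w := by group
        _ = v * (v * w) * w := by rw [hcomm]
        _ = v * v * (w * w) := by group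
        _ = 1 := by rw [hv, hw, one_mul]
  have hcj : ∀ k : K, k ≠ 1 → IsConj t k := by
    intro k hk
    refine ht k (congrArg Subtype.val (hsq k)) (fun h4 => hk (Subtype.ext h4)) ?_
    have h5 := ((hK k).1 k.2).1
    rw [hCy, mem_centralizer_singleton_iff] at h5
    exact h5
  have hrel : (centralizer ((P : Subgroup G) : Set G)).relIndex (normalizer ((P : Subgroup G) : Set G)) = e := by
    have hle : centralizer ((P : Subgroup G) : Set G) ≤ normalizer ((P : Subgroup G) : Set G) :=
      centralizer_le_normalizer _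
    have h4 := Subgroup.index_mul_card ((centralizer ((P : Subgroup G) : Set G)).subgroupOf
      (normalizer ((P : Subgroup G) : Set G)))
    have h5 : Nat.card (normalizer ((P : Subgroup G) : Set G)) = p * e * 4 := by
      have := hL.card_normalizer
      rw [hK4'] at this
      exact this
    rw [Nat.card_congr (Subgroup.subgroupOfEquivOfLe hle).toEquiv, hCP, h5] at h4
    have h6 : (centralizer ((P : Subgroup G) : Set G)).relIndex (normalizer ((P : Subgroup G) : Set G)) * (p * 4) =
        e * (p * 4) := by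
      rw [show e * (p * 4) = p * e * 4 by ring]
      exact h4
    exact Nat.eq_of_mul_eq_mul_right (by have := hp.pos; omega) h6
  have he : e = p - 1 := by
    have h4 := hL.card_eq
    rw [hN, hK4'] at h4
    have h5 : Nat.card (Sylow p G) % p = 1 := by
      have := card_sylow_modEq_one p G
      rw [Nat.ModEq, Nat.mod_eq_of_lt hp.one_lt] at this
      exact this
    have h6 : N / (p * 4) = Nat.card (Sylow p G) * e := by
      rw [h4, show Nat.card (Sylow p G) * (p * e * 4) = Nat.card (Sylow p G) * e * (p * 4) by ring]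
      exact Nat.mul_div_cancel _ (by have := hp.pos; omega)
    rw [h6, Nat.mul_mod, h5, one_mul, Nat.mod_mod] at hn3
    have h7 : e ≤ p - 1 := Nat.le_of_dvd (by have := hp.two_le; omega) hL.dvd_pred
    rwa [Nat.mod_eq_of_lt (by have := hp.two_le; omega)] at hn3
  refine ⟨P, K, hK, hP, hK4, hsq, hcj, ?_, by rw [hrel, he], h3⟩
  intro k k' hk hk'
  obtain ⟨g, hg⟩ := isConj_iff.1 ((hcj k hk).symm.trans (hcj k' hk'))
  obtain ⟨n, hn, h4⟩ := P.conj_eq_normalizer_conj_of_mem_centralizer (k : G) g⁻¹ ((hK k).1 k.2).1 (by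
    rw [inv_inv, hg]
    exact ((hK k').1 k'.2).1)
  refine ⟨n⁻¹, inv_mem hn, ?_⟩
  rw [inv_inv, ← h4, inv_inv, hg]

end Cfsg.Agent.H489.Ore
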