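import Cfsg.Agent.H489.Ore.Loc
import Cfsg.Agent.H51.RuOdd
import Cfsg.Agent.H436.TwoRu
import Cfsg.Agent.H148.Ru.CentSeven
import Cfsg.Agent.H805.NilRu

/-!
# Local facts of the Rudvalis group for the degree argument (helper489, ORE S2443)

`v` an involution of class 2B inverting `x` of order 29; `v`, `w` generate `2²` centralizing `y` of order 13 and `y'` of
order 7.
-/

set_option autoImplicit false
set_option maxRecDepth 100000

namespace Cfsg.Agent.H489.Ore.Ru

open Cfsg Subgroup Cfsg.Agent.SporadicB Cfsg.Agent.KFacts.RuDbl.Four Cfsg.Agent.H51.RuOdd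
open Cfsg.Agent.RuD.Letters Cfsg.Agent.RuD.Model

def wv : List ℕ := [0]
def ww : List ℕ := [0, 2, 0, 1, 0, 1, 2, 0, 2, 1, 0, 1, 0, 2, 0, 1, 3, 0, 1, 3, 2, 0, 2, 3, 1, 0, 3, 1, 0, 1, 3, 0, 1, 3,
  2, 0, 2, 3, 1, 0, 3, 1, 0, 1, 3, 0, 1, 3, 2, 0, 2, 3, 1, 0, 3, 1, 0, 1, 3, 0, 1, 3, 2, 0, 2, 3, 1, 0, 3, 1, 0, 1, 3, 0,
  1, 3, 2, 0, 2, 3, 1, 0, 3, 1]
def wx : List ℕ := [0, 1, 0, 3, 1, 0, 1, 3, 0, 1]
def wy : List ℕ := [3, 0, 3, 0, 3, 0, 3, 2, 0, 2, 0, 2, 0, 2]
def wy7 : List ℕ := [3, 0, 3, 0, 3, 0, 2, 3, 0, 3, 2, 3]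

noncomputable def v : RuOrder.H := W4 wv
noncomputable def w : RuOrder.H := W4 ww
noncomputable def x : RuOrder.H := W4 wx
noncomputable def y : RuOrder.H := W4 wy
noncomputable def y7 : RuOrder.H := W4 wy7

theorem comm_of {a b : List ℕ} (h : eqw4 (a ++ b) (b ++ a) = true) : W4 a * W4 b = W4 b * W4 a := by
  rw [← W4_append, ← W4_append]
  exact eqw4_sound h

theorem sq_of {a : List ℕ} (h : eqw4 (a ++ a) [] = true) : W4 a * W4 a = 1 := by
  rw [← W4_append, ← W4_nil]
  exact eqw4_sound h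

theorem vv : v * v = 1 := sq_of (by decide +kernel)
theorem w_w : w * w = 1 := sq_of (by decide +kernel)
theorem vw : v * w = w * v := comm_of (by decide +kernel)
theorem v_ne : v ≠ 1 := ne_one 0 (by decide +kernel)
theorem w_ne : w ≠ 1 := ne_one 0 (by decide +kernel)
theorem vw_ne : W4 (wv ++ ww) ≠ 1 := ne_one 0 (by decide +kernel)

theorem v_ne_w : v ≠ w := by
  intro h
  apply vw_ne
  rw [W4_append]
  show v * w = 1
  rw [← h, vv]

theorem vy : v * y = y * v := comm_of (by decide +kernel)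
theorem w_y : w * y = y * w := comm_of (by decide +kernel)
theorem vy7 : v * y7 = y7 * v := comm_of (by decide +kernel)
theorem w_y7 : w * y7 = y7 * w := comm_of (by decide +kernel)

theorem orderOf_y : orderOf y = 13 := by
  have : Fact (Nat.Prime 13) := ⟨by norm_num⟩
  exact orderOf_eq_prime (pow_of (by decide +kernel)) (ne_one 0 (by decide +kernel))

theorem orderOf_y7 : orderOf y7 = 7 := by
  have : Fact (Nat.Prime 7) := ⟨by norm_num⟩
  exact orderOf_eq_prime (pow_of (by decide +kernel)) (ne_one 0 (by decide +kernel))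

theorem orderOf_x : orderOf x = 29 := by
  have : Fact (Nat.Prime 29) := ⟨by norm_num⟩
  exact orderOf_eq_prime (pow_of (by decide +kernel)) (ne_one 0 (by decide +kernel))

theorem vx : v * x * v⁻¹ = x⁻¹ := by
  have h1 : v⁻¹ = v := inv_eq_of_mul_eq_one_right vv
  have h2 : W4 ((wv ++ wx ++ wv) ++ wx) = W4 [] := eqw4_sound (by decide +kernel)
  rw [W4_append, W4_append, W4_append, W4_nil] at h2
  rw [h1, eq_inv_iff_mul_eq_one]
  exact h2

theorem card_H : Nat.card RuOrder.H = 145926144000 := RuOrder.card_H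

/-- two commuting involutions -/
theorem four_dvd {G : Type*} [Group G] [Finite G] {a b : G} (ha : a * a = 1) (hb : b * b = 1) (ha1 : a ≠ 1)
    (hb1 : b ≠ 1) (hab : a ≠ b) (hc : a * b = b * a) : 4 ∣ Nat.card G := by
  classical
  let V : Subgroup G :=
    { carrier := {g | g = 1 ∨ g = a ∨ g = b ∨ g = a * b}
      one_mem' := Or.inl rfl
      mul_mem' := by
        have e1 : a * (a * b) = b := by rw [← mul_assoc, ha, one_mul]
        have e2 : b * (a * b) = a := by rw [hc, ← mul_assoc, hb, one_mul]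
        have e3 : a * b * a = b := by rw [hc, mul_assoc, ha, mul_one]
        have e4 : a * b * b = a := by rw [mul_assoc, hb, mul_one]
        have e5 : a * b * (a * b) = 1 := by rw [← mul_assoc, e3, hb]
        rintro g h (rfl | rfl | rfl | rfl) (rfl | rfl | rfl | rfl)
        all_goals simp only [Set.mem_setOf_eq, one_mul, mul_one, ha, hb, e1, e2, e3, e4, e5, hc, true_or, or_true]
        all_goals first | exact Or.inl rfl | (rw [← hc]; simp [e1, e2, e3, e4, e5])
      inv_mem' := by
        have ia : a⁻¹ = a := inv_eq_of_mul_eq_one_right ha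
        have ib : b⁻¹ = b := inv_eq_of_mul_eq_one_right hb
        rintro g (rfl | rfl | rfl | rfl)
        · left; exact inv_one
        · right; left; exact ia
        · right; right; left; exact ib
        · right; right; right
          rw [mul_inv_rev, ia, ib, hc] }
  have hV : Nat.card V = 4 := by
    have h1 : (V : Set G) = (({1, a, b, a * b} : Finset G) : Set G) := by
      ext g
      simp [V]
    have h2 : Nat.card V = Nat.card ((({1, a, b, a * b} : Finset G) : Set G)) := by rw [← h1]; rfl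
    rw [h2, Nat.card_coe_set_eq, Set.ncard_coe_finset]
    rw [Finset.card_insert_of_notMem, Finset.card_insert_of_notMem, Finset.card_insert_of_notMem, Finset.card_singleton]
    · simp only [Finset.mem_singleton]
      exact fun h => ha1 (right_eq_mul.1 h)
    · simp only [Finset.mem_insert, Finset.mem_singleton, not_or]
      exact ⟨hab, fun h => hb1 (left_eq_mul.1 h)⟩
    · simp only [Finset.mem_insert, Finset.mem_singleton, not_or]
      refine ⟨Ne.symm ha1, Ne.symm hb1, fun h => hab ?_⟩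
      calc a = a * (b * b) := by rw [hb, mul_one]
        _ = a * b * b := by rw [mul_assoc]
        _ = b := by rw [← h, one_mul]
  rw [← hV]
  exact V.card_subgroup_dvd_card

theorem dvd_card_cent {u : RuOrder.H} (h1 : v * u = u * v) (h2 : w * u = u * w) :
    4 ∣ Nat.card (centralizer ({u} : Set RuOrder.H)) := by
  have := H436.TwoRu.finite_H
  refine four_dvd (a := ⟨v, mem_centralizer_singleton_iff.2 h1⟩) (b := ⟨w, mem_centralizer_singleton_iff.2 h2⟩)
    (Subtype.ext vv) (Subtype.ext w_w) ?_ ?_ ?_ (Subtype.ext vw)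
  · exact fun h => v_ne (congrArg Subtype.val h)
  · exact fun h => w_ne (congrArg Subtype.val h)
  · exact fun h => v_ne_w (congrArg Subtype.val h)

theorem orderOf_dvd_cent (u : RuOrder.H) : orderOf u ∣ Nat.card (centralizer ({u} : Set RuOrder.H)) := by
  have := H436.TwoRu.finite_H
  have h : u ∈ centralizer ({u} : Set RuOrder.H) := mem_centralizer_singleton_iff.2 rfl
  exact Subgroup.orderOf_dvd_natCard _ h

theorem card_cent_y : Nat.card (centralizer ({y} : Set RuOrder.H)) = 13 * 4 := by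
  refine Nat.dvd_antisymm (H436.TwoRu.cent13 y orderOf_y) ?_
  exact Nat.Coprime.mul_dvd_of_dvd_of_dvd (by norm_num) (orderOf_y ▸ orderOf_dvd_cent y) (dvd_card_cent vy w_y)

theorem card_cent_y7 : Nat.card (centralizer ({y7} : Set RuOrder.H)) = 7 * 4 := by
  have := H436.TwoRu.finite_H
  have h1 : Nat.card (centralizer ({y7} : Set RuOrder.H)) ≤ 28 := by
    rw [H436.TwoRu.card_eq_of (by norm_num) (by norm_num) orderOf_y7 H148.Ru.orderC, H436.TwoRu.cen_eq]
    exact H148.Ru.card_C
  have h2 : 7 * 4 ∣ Nat.card (centralizer ({y7} : Set RuOrder.H)) :=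
    Nat.Coprime.mul_dvd_of_dvd_of_dvd (by norm_num) (orderOf_y7 ▸ orderOf_dvd_cent y7) (dvd_card_cent vy7 w_y7)
  have h3 := Nat.le_of_dvd Nat.card_pos h2
  omega

theorem card_cent_of_29 {u : RuOrder.H} (hu : orderOf u = 29) : Nat.card (centralizer ({u} : Set RuOrder.H)) = 29 :=
  Nat.dvd_antisymm (H436.TwoRu.cent29 u hu) (hu ▸ orderOf_dvd_cent u)

/-- involutions commuting with an element of order 13 or 7 are conjugate to `T` -/
theorem conj_T {k u : RuOrder.H} (hk : k * k = 1) (hk1 : k ≠ 1) (h : k * u = u * k) (hu : ¬ orderOf u ∣ 245760) :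
    IsConj T k := by
  have := H436.TwoRu.finite_H
  rcases OddHalf.D9.Ru.XLevel.isConj_or hk hk1 with h1 | h1
  · exfalso
    apply hu
    have h2 := OddHalf.D9.Ru.XCover.card_cent
    rw [← H805.NilSp.card_cent_isConj h1] at h2
    have h3 : u ∈ centralizer ({k} : Set RuOrder.H) := mem_centralizer_singleton_iff.2 h.symm
    exact (h2 ▸ Subgroup.orderOf_dvd_natCard _ h3)
  · exact h1

theorem conj_v {k u : RuOrder.H} (hk : k * k = 1) (hk1 : k ≠ 1) (h : k * u = u * k) (hu : ¬ orderOf u ∣ 245760) :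
    IsConj v k :=
  (conj_T vv v_ne vy (by rw [orderOf_y]; norm_num)).symm.trans (conj_T hk hk1 h hu)

theorem simple : IsSimpleGroup RuOrder.H :=
  (MulEquiv.isSimpleGroup_congr RuLat.Main.equiv).1 Cfsg.Agent.S1627.result.2.2

theorem not_comm : ¬ IsMulCommutative RuOrder.H := by
  have := H436.TwoRu.finite_H
  intro h
  have h1 : centralizer ({y} : Set RuOrder.H) = ⊤ := by
    rw [eq_top_iff]
    intro u _
    exact mem_centralizer_singleton_iff.2 (h.is_comm.comm u y)
  have h2 := card_cent_y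
  rw [h1, Nat.card_congr Subgroup.topEquiv.toEquiv, card_H] at h2
  norm_num at h2

instance : Fact (Nat.Prime 13) := ⟨by norm_num⟩
instance : Fact (Nat.Prime 7) := ⟨by norm_num⟩

theorem loc13 [Finite RuOrder.H] [IsSimpleGroup RuOrder.H] : ∃ (P : Sylow 13 RuOrder.H) (K : Subgroup RuOrder.H), Loc P K v :=
  exists_loc not_comm card_H orderOf_y card_cent_y vv w_w v_ne w_ne v_ne_w vw vy w_y
    (fun k hk hk1 h => conj_v hk hk1 h (by rw [orderOf_y]; norm_num)) (by norm_num) (by norm_num) (by norm_num)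
    (by norm_num) (by norm_num)

theorem loc7 [Finite RuOrder.H] [IsSimpleGroup RuOrder.H] : ∃ (P : Sylow 7 RuOrder.H) (K : Subgroup RuOrder.H), Loc P K v :=
  exists_loc not_comm card_H orderOf_y7 card_cent_y7 vv w_w v_ne w_ne v_ne_w vw vy7 w_y7
    (fun k hk hk1 h => conj_v hk hk1 h (by rw [orderOf_y7]; norm_num)) (by norm_num) (by norm_num) (by norm_num)
    (by norm_num) (by norm_num)

end Cfsg.Agent.H489.Ore.Ru
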