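import Cfsg.Agent.H489.Ore.RuLoc
import Cfsg.Agent.H65.Ore.Split
import Cfsg.Agent.H511.Ore.Deg

/-!
# The Rudvalis group: elements with `|C(g)| ≤ 8428` are commutators (helper489, ORE S2443)

`RuOrder.H`; `x` of order 29, nonexceptional degrees `≥ 378`, exceptional degrees `≥ 2016`.
-/

set_option autoImplicit false
set_option maxRecDepth 100000

namespace Cfsg.Agent.H489.Ore.Ru

open Cfsg Subgroup Cfsg.Agent.SporadicB Cfsg.Agent.Characters Cfsg.Agent.H65.Ore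
open scoped ComplexConjugate

/-- `χ ≠ 1` at an element of order 29 -/
theorem norm_le [Finite RuOrder.H] (χ : IrrCharacter RuOrder.H) (hχ : (χ : RuOrder.H → ℂ) ≠ 1) {u : RuOrder.H}
    (hu : orderOf u = 29) : ‖(χ : RuOrder.H → ℂ) u‖ ^ 2 ≤ 28 := by
  classical
  have : Finite (IrrCharacter RuOrder.H) := Core.finite_irr
  have := Fintype.ofFinite (IrrCharacter RuOrder.H)
  have h1 := sum_erase_sq u
  rw [card_cent_of_29 hu] at h1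
  have h2 := Finset.single_le_sum (f := fun χ : IrrCharacter RuOrder.H => ‖(χ : RuOrder.H → ℂ) u‖ ^ 2)
    (fun _ _ => by positivity) (Finset.mem_erase.2 ⟨fun h : χ = one1 RuOrder.H => hχ (by rw [h]; rfl), Finset.mem_univ χ⟩)
  rw [h1] at h2
  norm_num at h2
  exact h2

/-- the value at `v` -/
theorem inv_val [Finite RuOrder.H] (χ : IrrCharacter RuOrder.H) (hχ : (χ : RuOrder.H → ℂ) ≠ 1) : ∃ a b : ℕ,
    (χ : RuOrder.H → ℂ) v = (a : ℂ) - b ∧ 29 * (a + b) ≤ charDegree (χ : RuOrder.H → ℂ) + 148 := by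
  classical
  have := Fintype.ofFinite (zpowers x)
  obtain ⟨a, b, h1, h2⟩ := invert_bound (Core.isIrr_isCharacter χ.2) vv vx
    (by rw [orderOf_x]; decide)
  refine ⟨a, b, h1, ?_⟩
  rw [orderOf_x, ← Finset.add_sum_erase Finset.univ _ (Finset.mem_univ (1 : zpowers x))] at h2
  have h3 : ‖∑ y ∈ Finset.univ.erase (1 : zpowers x), (χ : RuOrder.H → ℂ) y‖ ≤ 28 * Real.sqrt 28 := by
    refine (norm_sum_le _ _).trans ?_
    have h4 : ∀ y ∈ Finset.univ.erase (1 : zpowers x), ‖(χ : RuOrder.H → ℂ) y‖ ≤ Real.sqrt 28 := by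
      intro y hy
      apply Real.le_sqrt_of_sq_le
      apply norm_le χ hχ
      have h5 : orderOf y ∣ 29 := by
        have := orderOf_dvd_natCard y
        rwa [Nat.card_zpowers, orderOf_x] at this
      rcases (Nat.dvd_prime (by norm_num)).1 h5 with h6 | h6
      · exact absurd (orderOf_eq_one_iff.1 h6) (Finset.ne_of_mem_erase hy)
      · rw [Subgroup.orderOf_coe, h6]
    refine (Finset.sum_le_card_nsmul _ _ _ h4).trans ?_
    rw [Finset.card_erase_of_mem (Finset.mem_univ _), Finset.card_univ, ← Nat.card_eq_fintype_card, Nat.card_zpowers,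
      orderOf_x, nsmul_eq_mul]
    norm_num
  have h4 : ∑ y ∈ Finset.univ.erase (1 : zpowers x), (χ : RuOrder.H → ℂ) y =
      ((29 * ((a : ℝ) + b) - charDegree (χ : RuOrder.H → ℂ) : ℝ) : ℂ) := by
    have h5 : (χ : RuOrder.H → ℂ) ((1 : zpowers x) : RuOrder.H) = (charDegree (χ : RuOrder.H → ℂ) : ℂ) := cast_deg χ
    rw [h5] at h2
    push_cast at h2 ⊢
    linear_combination h2
  rw [h4, Complex.norm_real, Real.norm_eq_abs] at h3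
  have h5 : (28 : ℝ) * Real.sqrt 28 < 149 := by
    have h6 : Real.sqrt 28 < 149 / 28 := by
      rw [Real.sqrt_lt' (by norm_num)]
      norm_num
    linarith
  have h6 := (le_abs_self _).trans_lt (h3.trans_lt h5)
  have h7 : (29 : ℝ) * ((a : ℝ) + b) < ((charDegree (χ : RuOrder.H → ℂ) + 149 : ℕ) : ℝ) := by
    push_cast
    linarith
  have h8 : ((29 * (a + b) : ℕ) : ℝ) < ((charDegree (χ : RuOrder.H → ℂ) + 149 : ℕ) : ℝ) := by
    push_cast at h7 ⊢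
    exact h7
  have h9 := Nat.cast_lt.1 h8
  omega

/-- the numerical sieve -/
def okp (p k m₁ m₂ : ℕ) : Bool :=
  ((Nat.beq (m₁ % p) 1 || Nat.beq (m₁ % p) (p - 1)) && Nat.beq (m₂ % p) 0) ||
    (Nat.beq (m₁ % p) 0 && (Nat.beq (m₂ % p) 0 || Nat.beq (m₂ % p) 1 || Nat.beq (m₂ % p) (p - 1) ||
      Nat.beq (m₂ % p) k || Nat.beq (m₂ % p) (p - k)))

def chk : Bool :=
  (List.range 2016).all fun d => !(Nat.beq (145926144000 % d) 0) || Nat.ble d 1 ||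
    !(Nat.beq (d % 29) 1 || Nat.beq (d % 29) 28 || Nat.beq (d % 29) 14 || Nat.beq (d % 29) 15) ||
    (List.range (d / 3 + 1)).all fun m₂ =>
      let m₁ := d - 3 * m₂
      !(Nat.ble (29 * m₁) (d + 148 + 29 * m₂)) || !(Nat.ble (29 * m₂) (d + 148 + 29 * m₁)) ||
        !(okp 13 4 m₁ m₂) || !(okp 7 2 m₁ m₂) || (Nat.beq d 378) || (Nat.beq d 1000 && Nat.beq m₂ 247)

theorem chk_true : chk = true := by decide +kernel

theorem chk_sound {d m₁ m₂ a b : ℕ} (hN : d ∣ 145926144000) (h1 : 1 < d) (hlt : d < 2016)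
    (hmod : d % 29 = 1 ∨ d % 29 = 28 ∨ d % 29 = 14 ∨ d % 29 = 15) (hd : d = m₁ + 3 * m₂)
    (hs : (m₁ : ℤ) - m₂ = a - b) (hab : 29 * (a + b) ≤ d + 148) (h13 : okp 13 4 m₁ m₂ = true)
    (h7 : okp 7 2 m₁ m₂ = true) : d = 378 ∨ (d = 1000 ∧ m₂ = 247) := by
  have h := List.all_eq_true.1 chk_true d (List.mem_range.2 hlt)
  have e0 : Nat.beq (145926144000 % d) 0 = true := by
    rw [Nat.beq_eq]
    exact Nat.mod_eq_zero_of_dvd hN
  have e1 : Nat.ble d 1 = false := by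
    rw [← Bool.not_eq_true, Nat.ble_eq]
    omega
  have e2 : (Nat.beq (d % 29) 1 || Nat.beq (d % 29) 28 || Nat.beq (d % 29) 14 || Nat.beq (d % 29) 15) = true := by
    simp only [Bool.or_eq_true, Nat.beq_eq]
    tauto
  rw [e0, e1, e2] at h
  simp only [Bool.not_true, Bool.false_or] at h
  have h2 := List.all_eq_true.1 h m₂ (List.mem_range.2 (by omega))
  have e3 : d - 3 * m₂ = m₁ := by omega
  have e4 : Nat.ble (29 * m₁) (d + 148 + 29 * m₂) = true := by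
    rw [Nat.ble_eq]
    omega
  have e5 : Nat.ble (29 * m₂) (d + 148 + 29 * m₁) = true := by
    rw [Nat.ble_eq]
    omega
  simp only [e3, e4, e5, h13, h7, Bool.not_true, Bool.false_or, Bool.or_eq_true, Bool.and_eq_true, Nat.beq_eq] at h2
  exact h2

theorem ok13 {m₁ m₂ : ℕ} (h : ((∃ δ : ℤ, (δ = 1 ∨ δ = -1) ∧ ((13 : ℕ) : ℤ) ∣ m₁ - δ) ∧ ((13 : ℕ) : ℤ) ∣ m₂) ∨
     (((13 : ℕ) : ℤ) ∣ m₁ ∧ ((13 : ℕ) : ℤ) ∣ m₂) ∨
     (((13 : ℕ) : ℤ) ∣ m₁ ∧ ∃ δ : ℤ, (δ = 1 ∨ δ = -1) ∧ ((13 : ℕ) : ℤ) ∣ m₂ - δ) ∨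
     (((13 : ℕ) : ℤ) ∣ m₁ ∧ ∃ δ : ℤ, (δ = 1 ∨ δ = -1) ∧ ((13 : ℕ) : ℤ) ∣ m₂ - δ * ((13 - 1) / 3 : ℕ))) :
    okp 13 4 m₁ m₂ = true := by
  simp only [okp, Bool.or_eq_true, Bool.and_eq_true, Nat.beq_eq]
  rcases h with ⟨⟨δ, rfl | rfl, h1⟩, h2⟩ | ⟨h1, h2⟩ | ⟨h1, δ, rfl | rfl, h2⟩ | ⟨h1, δ, rfl | rfl, h2⟩ <;> omega

theorem ok7 {m₁ m₂ : ℕ} (h : ((∃ δ : ℤ, (δ = 1 ∨ δ = -1) ∧ ((7 : ℕ) : ℤ) ∣ m₁ - δ) ∧ ((7 : ℕ) : ℤ) ∣ m₂) ∨
     (((7 : ℕ) : ℤ) ∣ m₁ ∧ ((7 : ℕ) : ℤ) ∣ m₂) ∨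
     (((7 : ℕ) : ℤ) ∣ m₁ ∧ ∃ δ : ℤ, (δ = 1 ∨ δ = -1) ∧ ((7 : ℕ) : ℤ) ∣ m₂ - δ) ∨
     (((7 : ℕ) : ℤ) ∣ m₁ ∧ ∃ δ : ℤ, (δ = 1 ∨ δ = -1) ∧ ((7 : ℕ) : ℤ) ∣ m₂ - δ * ((7 - 1) / 3 : ℕ))) :
    okp 7 2 m₁ m₂ = true := by
  simp only [okp, Bool.or_eq_true, Bool.and_eq_true, Nat.beq_eq]
  rcases h with ⟨⟨δ, rfl | rfl, h1⟩, h2⟩ | ⟨h1, h2⟩ | ⟨h1, δ, rfl | rfl, h2⟩ | ⟨h1, δ, rfl | rfl, h2⟩ <;> omega

theorem dvd_of_zero [Finite RuOrder.H] (χ : IrrCharacter RuOrder.H)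
    (h : ∀ u : RuOrder.H, orderOf u = 29 → (χ : RuOrder.H → ℂ) u = 0) : 29 ∣ charDegree (χ : RuOrder.H → ℂ) := by
  classical
  have := Fintype.ofFinite (zpowers x)
  obtain ⟨a, b, h1, h2⟩ := invert_bound (Core.isIrr_isCharacter χ.2) vv vx (by rw [orderOf_x]; decide)
  rw [orderOf_x, ← Finset.add_sum_erase Finset.univ _ (Finset.mem_univ (1 : zpowers x)),
    Finset.sum_eq_zero (s := Finset.univ.erase (1 : zpowers x)), add_zero] at h2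
  · have h5 : (χ : RuOrder.H → ℂ) ((1 : zpowers x) : RuOrder.H) = (charDegree (χ : RuOrder.H → ℂ) : ℂ) := cast_deg χ
    rw [h5] at h2
    refine ⟨a + b, ?_⟩
    exact_mod_cast h2
  · intro y hy
    apply h
    have h5 : orderOf y ∣ 29 := by
      have := orderOf_dvd_natCard y
      rwa [Nat.card_zpowers, orderOf_x] at this
    rcases (Nat.dvd_prime (by norm_num)).1 h5 with h6 | h6
    · exact absurd (orderOf_eq_one_iff.1 h6) (Finset.ne_of_mem_erase hy)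
    · rw [Subgroup.orderOf_coe, h6]

theorem chkSC_Ru : chkSC 145926144000 29 14 2 141 = true := by decide +kernel

theorem alt {Q R : Prop} (h : ((∃ δ : ℤ, (δ = 1 ∨ δ = -1) ∧ ((7 : ℕ) : ℤ) ∣ (259 : ℕ) - δ) ∧ ((7 : ℕ) : ℤ) ∣ (247 : ℕ)) ∨
     (((7 : ℕ) : ℤ) ∣ (259 : ℕ) ∧ ((7 : ℕ) : ℤ) ∣ (247 : ℕ)) ∨
     (((7 : ℕ) : ℤ) ∣ (259 : ℕ) ∧ ∃ δ : ℤ, (δ = 1 ∨ δ = -1) ∧ ((7 : ℕ) : ℤ) ∣ (247 : ℕ) - δ) ∨
     (Q ∧ ∃ δ : ℤ, (δ = 1 ∨ δ = -1) ∧ ((7 : ℕ) : ℤ) ∣ (247 : ℕ) - δ * ((7 - 1) / 3 : ℕ) ∧ R)) : R := by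
  rcases h with ⟨-, h2⟩ | ⟨-, h2⟩ | ⟨h1, δ, rfl | rfl, h2⟩ | ⟨-, δ, -, -, h2⟩
  · omega
  · omega
  · omega
  · omega
  · exact h2

/-- the degrees below 2016 -/
theorem deg_pre [Finite RuOrder.H] [IsSimpleGroup RuOrder.H] (χ : IrrCharacter RuOrder.H)
    (hχ : (χ : RuOrder.H → ℂ) ≠ 1) (hlt : charDegree (χ : RuOrder.H → ℂ) < 2016)
    (hmod : charDegree (χ : RuOrder.H → ℂ) % 29 = 1 ∨ charDegree (χ : RuOrder.H → ℂ) % 29 = 28 ∨
      charDegree (χ : RuOrder.H → ℂ) % 29 = 14 ∨ charDegree (χ : RuOrder.H → ℂ) % 29 = 15) :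
    charDegree (χ : RuOrder.H → ℂ) = 378 ∨ (charDegree (χ : RuOrder.H → ℂ) = 1000 ∧
      ∃ X : Finset (IrrCharacter RuOrder.H), X.card = 3 ∧ ∀ Θ ∈ X, ∀ g : RuOrder.H, ¬ 7 ∣ orderOf g →
        (Θ : RuOrder.H → ℂ) g = (χ : RuOrder.H → ℂ) g) := by
  obtain ⟨a, b, hab, hab2⟩ := inv_val χ hχ
  obtain ⟨P, K, L13⟩ := loc13
  obtain ⟨Q, L, L7⟩ := loc7
  obtain ⟨m₁, m₂, e1, e2, e3⟩ := L13.cases χ
  obtain ⟨n₁, n₂, f1, f2, f3⟩ := L7.cases χ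
  have hdeg := cast_deg χ
  have h1 : 1 < charDegree (χ : RuOrder.H → ℂ) := H511.Ore.two_le_charDegree not_comm χ hχ
  have hN : charDegree (χ : RuOrder.H → ℂ) ∣ 145926144000 := by
    have := Blocks.Knorr.charDegree_dvd χ.2
    rwa [card_H] at this
  generalize charDegree (χ : RuOrder.H → ℂ) = d at *
  have g1 : d = m₁ + 3 * m₂ := by
    rw [hdeg] at e1
    exact_mod_cast e1
  have g2 : d = n₁ + 3 * n₂ := by
    rw [hdeg] at f1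
    exact_mod_cast f1
  have g3 : (m₁ : ℤ) - m₂ = n₁ - n₂ := by
    rw [e2] at f2
    exact_mod_cast f2
  have g4 : (m₁ : ℤ) - m₂ = a - b := by
    rw [e2] at hab
    exact_mod_cast hab
  have g5 : n₁ = m₁ := by omega
  have g6 : n₂ = m₂ := by omega
  subst g5 g6
  have hok13 : okp 13 4 n₁ n₂ = true := by
    apply ok13
    rcases e3 with h | h | h | ⟨h, δ, h', h'', -⟩
    exacts [Or.inl h, Or.inr (Or.inl h), Or.inr (Or.inr (Or.inl h)), Or.inr (Or.inr (Or.inr ⟨h, δ, h', h''⟩))]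
  have hok7 : okp 7 2 n₁ n₂ = true := by
    apply ok7
    rcases f3 with h | h | h | ⟨h, δ, h', h'', -⟩
    exacts [Or.inl h, Or.inr (Or.inl h), Or.inr (Or.inr (Or.inl h)), Or.inr (Or.inr (Or.inr ⟨h, δ, h', h''⟩))]
  rcases chk_sound hN h1 hlt hmod g1 g4 hab2 hok13 hok7 with h2 | ⟨h2, h3⟩
  · exact Or.inl h2
  have h4 : n₁ = 259 := by omega
  rw [h3, h4] at f3
  exact Or.inr ⟨h2, alt f3⟩

/-- **the degrees** -/
theorem deg [Finite RuOrder.H] [IsSimpleGroup RuOrder.H] (χ : IrrCharacter RuOrder.H) (hχ : (χ : RuOrder.H → ℂ) ≠ 1)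
    (hmod : charDegree (χ : RuOrder.H → ℂ) % 29 = 1 ∨ charDegree (χ : RuOrder.H → ℂ) % 29 = 28 ∨
      charDegree (χ : RuOrder.H → ℂ) % 29 = 14 ∨ charDegree (χ : RuOrder.H → ℂ) % 29 = 15) :
    charDegree (χ : RuOrder.H → ℂ) = 378 ∨ 2016 ≤ charDegree (χ : RuOrder.H → ℂ) := by
  by_contra hno
  rw [not_or, not_le] at hno
  obtain ⟨hno1, hno2⟩ := hno
  rcases deg_pre χ hχ hno2 hmod with h | ⟨h2, X, hX, hXv⟩
  · exact hno1 h
  have hXd : ∀ Θ ∈ X, charDegree (Θ : RuOrder.H → ℂ) = 1000 := by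
    intro Θ hΘ
    have h5 := hXv Θ hΘ 1 (by rw [orderOf_one]; norm_num)
    rw [cast_deg, cast_deg, h2] at h5
    exact_mod_cast h5
  obtain ⟨NE, Y, D⟩ := exists_dat not_comm (by norm_num) card_H orderOf_x (card_cent_of_29 orderOf_x) 14 2 141 chkSC_Ru
  have hsub : X ⊆ Y := by
    intro Θ hΘ
    by_contra hY
    have hd := hXd Θ hΘ
    have hNE : Θ ∉ NE := by
      intro hNE
      have := D.ne_deg Θ hNE
      rw [hd] at this
      norm_num at this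
    have h5 := dvd_of_zero Θ (fun u hu => D.off Θ hNE hY u hu)
    rw [hd] at h5
    norm_num at h5
  have h6 := Finset.card_le_card hsub
  rw [hX, D.cardX] at h6
  norm_num at h6

/-- **T1** -/
theorem reach : ∀ g : RuOrder.H, Nat.card (centralizer ({g} : Set RuOrder.H)) ≤ 8428 →
    ∃ a b : RuOrder.H, g = a * b * a⁻¹ * b⁻¹ := by
  intro g hg
  have := H436.TwoRu.finite_H
  have := simple
  refine comm_all not_comm (by norm_num : Nat.Prime 29) card_H orderOf_x (card_cent_of_29 orderOf_x) 14 2 141 chkSC_Ru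
    (DN := 378) (DX := 2016) (c := 8428) ?_ ?_ (by norm_num) (by norm_num) hg
  · intro χ hχ h
    rcases deg χ hχ (by omega) with h1 | h1 <;> omega
  · intro χ hχ h
    rcases deg χ hχ (by omega) with h1 | h1
    · rw [h1] at h
      norm_num at h
    · exact h1

end Cfsg.Agent.H489.Ore.Ru
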